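import Groth.Agent.NoethMod.StalkAcc
import Groth.Agent.SheafHomLib.InjLocal
import Groth.Agent.DCohBridge.StalkExact
import Groth.Agent.QCohBase.CohProps
import Groth.Agent.FlatModLib.Summand

/-!
# Coproducts of modules lifting ideals over Noetherian affine opens
-/

set_option autoImplicit false
set_option linter.style.haveILetI false

noncomputable section

universe u

open CategoryTheory CategoryTheory.Limits AlgebraicGeometry TopologicalSpace Opposite
open Groth.Agent.QCohBase Groth.Agent.SheafHomLib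

namespace Groth.Agent.NoethMod

variable {X : Scheme.{u}}

section Aff

variable {U : X.Opens} (hU : IsAffineOpen U)

/-- The point of `U` given by a prime. -/
def pt (p : PrimeSpectrum Γ(X, U)) : X := hU.fromSpec p

lemma pt_mem (p : PrimeSpectrum Γ(X, U)) : pt hU p ∈ U := by
  have h : pt hU p ∈ Set.range hU.fromSpec := ⟨p, rfl⟩
  rwa [hU.range_fromSpec] at h

lemma pt_mem_of_le {W : X.Opens} {p q : PrimeSpectrum Γ(X, U)} (h : q.asIdeal ≤ p.asIdeal)
    (hp : pt hU p ∈ W) : pt hU q ∈ W :=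
  ((PrimeSpectrum.le_iff_specializes q p).1 h).mem_open (hU.fromSpec ⁻¹ᵁ W).2 hp

lemma pt_mem_basicOpen (p : PrimeSpectrum Γ(X, U)) (s : Γ(X, U)) :
    pt hU p ∈ X.basicOpen s ↔ s ∉ p.asIdeal := by
  change p ∈ hU.fromSpec ⁻¹ᵁ X.basicOpen s ↔ _
  rw [hU.fromSpec_preimage_basicOpen]
  exact Iff.rfl

lemma pt_primeIdealOf (x : U) : pt hU (hU.primeIdealOf x) = x.1 := hU.fromSpec_primeIdealOf x

include hU in
/-- Near a point, a section is a fraction. -/
lemma exists_fraction {W : X.Opens} (r : Γ(X, W)) {x : X} (hxW : x ∈ W) (hxU : x ∈ U) :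
    ∃ (a s : Γ(X, U)) (V : X.Opens) (h₁ : V ≤ W) (h₂ : V ≤ U),
      x ∈ V ∧ x ∈ X.basicOpen s ∧ ores h₁ r * ores h₂ s = ores h₂ a := by
  haveI := hU.isLocalization_stalk ⟨x, hxU⟩
  letI := X.presheaf.algebra_section_stalk ⟨x, hxU⟩
  obtain ⟨⟨a, s⟩, hr⟩ := IsLocalization.surj (hU.primeIdealOf ⟨x, hxU⟩).asIdeal.primeCompl
    (X.presheaf.germ W x hxW r)
  have hxs : x ∈ X.basicOpen s.1 := by
    have h := (pt_mem_basicOpen hU (hU.primeIdealOf ⟨x, hxU⟩) s.1).2 s.2
    rwa [pt_primeIdealOf] at h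
  have hr' : X.presheaf.germ (W ⊓ U) x ⟨hxW, hxU⟩ (ores inf_le_left r * ores inf_le_right s.1) =
      X.presheaf.germ (W ⊓ U) x ⟨hxW, hxU⟩ (ores inf_le_right a) := by
    rw [map_mul, TopCat.Presheaf.germ_res_apply, TopCat.Presheaf.germ_res_apply,
      TopCat.Presheaf.germ_res_apply]
    exact hr
  obtain ⟨V, hxV, i, j, e⟩ := TopCat.Presheaf.germ_eq X.presheaf x (show x ∈ W ⊓ U from ⟨hxW, hxU⟩) (show x ∈ W ⊓ U from ⟨hxW, hxU⟩) _ _ hr'
  refine ⟨a, s.1, V, i.le.trans inf_le_left, i.le.trans inf_le_right, hxV, hxs, ?_⟩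
  simp only [map_mul] at e
  rw [← ores_ores (inf_le_left : W ⊓ U ≤ W) i.le r, ← ores_ores (inf_le_right : W ⊓ U ≤ U) i.le s.1,
    ← ores_ores (inf_le_right : W ⊓ U ≤ U) i.le a]
  exact e

end Aff

section Coprod

variable {ι : Type u} (I : ι → X.Modules)

/-- The projection of a coproduct to one summand. -/
def cproj (j : ι) : ∐ I ⟶ I j :=
  letI := Classical.decEq ι
  Sigma.desc fun k => if h : k = j then eqToHom (congrArg I h) else 0

lemma ι_cproj_self (j : ι) : Sigma.ι I j ≫ cproj I j = 𝟙 (I j) := by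
  rw [cproj, Sigma.ι_desc]
  simp

lemma ι_cproj_ne {j k : ι} (h : k ≠ j) : Sigma.ι I k ≫ cproj I j = 0 := by
  rw [cproj, Sigma.ι_desc]
  simp [h]

/-- The projection onto finitely many summands. -/
def eS (S : Finset ι) : ∐ I ⟶ ∐ I := ∑ j ∈ S, cproj I j ≫ Sigma.ι I j

lemma ι_eS {S : Finset ι} {j : ι} (hj : j ∈ S) : Sigma.ι I j ≫ eS I S = Sigma.ι I j := by
  rw [eS, Preadditive.comp_sum, Finset.sum_eq_single_of_mem j hj]
  · rw [← Category.assoc, ι_cproj_self, Category.id_comp]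
  · intro k _ hk
    rw [← Category.assoc, ι_cproj_ne I (Ne.symm hk), zero_comp]

lemma eS_eS {S T : Finset ι} (h : S ⊆ T) : eS I S ≫ eS I T = eS I S := by
  conv_lhs => rw [eS, Preadditive.sum_comp]
  exact Finset.sum_congr rfl fun j hj => by rw [Category.assoc, ι_eS I (h hj)]

lemma fixed_mono {S T : Finset ι} (h : S ⊆ T) {W : X.Opens} {y : Γ(∐ I, W)}
    (hy : (eS I S).app W y = y) : (eS I T).app W y = y := by
  conv_lhs => rw [← hy]
  rw [← ConcreteCategory.comp_apply, ← Scheme.Modules.Hom.comp_app, eS_eS I h]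
  exact hy

lemma exists_fixed_stalk (x : X) (m : (DerSch.stalkFunctor X x).obj (∐ I)) :
    ∃ S : Finset ι, ((DerSch.stalkFunctor X x).map (eS I S)).hom m = m := by
  classical
  let F := DerSch.stalkFunctor X x
  let T : Submodule (X.presheaf.stalk x) (F.obj (∐ I)) :=
    { carrier := {m | ∃ S : Finset ι, (F.map (eS I S)).hom m = m}
      zero_mem' := ⟨∅, map_zero _⟩
      add_mem' := by
        rintro a b ⟨S, hS⟩ ⟨S', hS'⟩
        have key : ∀ {P Q : Finset ι} {z}, P ⊆ Q → (F.map (eS I P)).hom z = z → (F.map (eS I Q)).hom z = z := by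
          intro P Q z hPQ hz
          conv_lhs => rw [← hz]
          rw [← LinearMap.comp_apply, ← ModuleCat.hom_comp, ← F.map_comp, eS_eS I hPQ]
          exact hz
        exact ⟨S ∪ S', by rw [map_add, key Finset.subset_union_left hS, key Finset.subset_union_right hS']⟩
      smul_mem' := by
        rintro r a ⟨S, hS⟩
        exact ⟨S, by rw [map_smul, hS]⟩ }
  haveI : PreservesColimitsOfSize.{u, u} F := (DCohBridge.stalkSkyAdj x).leftAdjoint_preservesColimits
  have hc := isColimitOfPreserves F (colimit.isColimit (Discrete.functor I))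
  have hq : ModuleCat.ofHom T.mkQ = (0 : F.obj (∐ I) ⟶ ModuleCat.of _ (_ ⧸ T)) := by
    refine hc.hom_ext fun ⟨j⟩ => ModuleCat.hom_ext (LinearMap.ext fun z => ?_)
    refine (Submodule.Quotient.mk_eq_zero T).2 ⟨{j}, ?_⟩
    change (F.map (eS I {j})).hom ((F.map (Sigma.ι I j)).hom z) = (F.map (Sigma.ι I j)).hom z
    rw [← LinearMap.comp_apply, ← ModuleCat.hom_comp, ← F.map_comp, ι_eS I (Finset.mem_singleton_self j)]
  exact (Submodule.Quotient.mk_eq_zero T).1 (LinearMap.congr_fun (congrArg ModuleCat.Hom.hom hq) m)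

/-- Locally, a section of a coproduct lies in a finite subsum. -/
lemma exists_fixed {W : X.Opens} (y : Γ(∐ I, W)) {x : X} (hx : x ∈ W) :
    ∃ (S : Finset ι) (V : X.Opens) (h : V ≤ W), x ∈ V ∧ (eS I S).app V (mres (∐ I) h y) = mres (∐ I) h y := by
  obtain ⟨S, hS⟩ := exists_fixed_stalk I x ((∐ I).presheaf.germ W x hx y)
  have h1 : (∐ I).presheaf.germ W x hx ((eS I S).app W y) = (∐ I).presheaf.germ W x hx y :=
    (DerSch.stalkFunctor_map_germ x (eS I S) W hx y).symm.trans hS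
  obtain ⟨V, hV, i, j, e⟩ :=
    TopCat.Presheaf.germ_eq (C := AddCommGrpCat.{u}) (∐ I).presheaf x hx hx _ _ h1
  refine ⟨S, V, i.le, hV, ?_⟩
  rw [← GenLocus.app_mres]
  exact e

variable [IsLocallyNoetherian X] {U : X.Opens}

/-- A coproduct of modules lifting ideals on a Noetherian affine open does so. -/
theorem liftsIdeals_coprod (hU : IsAffineOpen U) (hI : ∀ j, LiftsIdeals (I j) U) :
    LiftsIdeals (∐ I) U := by
  classical
  intro q qres hfn
  haveI := isNoetherianRing_sections hU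
  let K : Finset ι → PrimeSpectrum Γ(X, U) → Ideal Γ(X, U) := fun S p =>
    { carrier := {a | ∃ (V : X.Opens) (h : V ≤ U) (y : Γ(∐ I, V)),
        pt hU p ∈ V ∧ (ores h a, y) ∈ q V ∧ (eS I S).app V y = y}
      zero_mem' := ⟨U, le_rfl, 0, pt_mem hU p, by rw [map_zero]; exact (q U).zero_mem, map_zero _⟩
      add_mem' := by
        rintro a b ⟨V, h, y, hp, hy, he⟩ ⟨V', h', y', hp', hy', he'⟩
        refine ⟨V ⊓ V', inf_le_left.trans h, mres _ inf_le_left y + mres _ inf_le_right y', ⟨hp, hp'⟩, ?_, ?_⟩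
        · have h1 := qres (inf_le_left : V ⊓ V' ≤ V) hy
          have h2 := qres (inf_le_right : V ⊓ V' ≤ V') hy'
          simp only [ores_ores] at h1 h2
          rw [map_add]
          exact (q _).add_mem h1 h2
        · rw [map_add, ← GenLocus.app_mres, ← GenLocus.app_mres, he, he']
      smul_mem' := by
        rintro r a ⟨V, h, y, hp, hy, he⟩
        refine ⟨V, h, ores h r • y, hp, ?_, ?_⟩
        · rw [smul_eq_mul, map_mul]
          exact (q V).smul_mem (ores h r) hy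
        · rw [Scheme.Modules.Hom.app_smul, he] }
  have hmono : ∀ p, Monotone fun S => K S p := by
    rintro p S T hST a ⟨V, h, y, hp, hy, he⟩
    exact ⟨V, h, y, hp, hy, fixed_mono I hST he⟩
  have hgen : ∀ S (p p' : PrimeSpectrum Γ(X, U)), p'.asIdeal ≤ p.asIdeal → K S p ≤ K S p' := by
    rintro S p p' hle a ⟨V, h, y, hp, hy, he⟩
    exact ⟨V, h, y, pt_mem_of_le hU hle hp, hy, he⟩
  have hopen : ∀ S (p : PrimeSpectrum Γ(X, U)) (a : Γ(X, U)), a ∈ K S p →
      ∃ s, s ∉ p.asIdeal ∧ ∀ p' : PrimeSpectrum Γ(X, U), s ∉ p'.asIdeal → a ∈ K S p' := by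
    rintro S p a ⟨V, h, y, hp, hy, he⟩
    obtain ⟨s, hs, hps⟩ := hU.exists_basicOpen_le ⟨pt hU p, hp⟩ (pt_mem hU p)
    exact ⟨s, (pt_mem_basicOpen hU p s).1 hps,
      fun p' hp' => ⟨V, h, y, hs ((pt_mem_basicOpen hU p' s).2 hp'), hy, he⟩⟩
  obtain ⟨S₀, hS₀⟩ := exists_stable K hmono hgen hopen
  have key : ∀ (W : X.Opens), W ≤ U → ∀ (r : Γ(X, W)) (y : Γ(∐ I, W)), (r, y) ∈ q W →
      (eS I S₀).app W y = y := by
    intro W hW r y hry
    rw [← sub_eq_zero]
    refine eq_zero_of_locally _ fun x hx => ?_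
    obtain ⟨a, s, V, hVW, hVU, hxV, hxs, e⟩ := exists_fraction hU r hx (hW hx)
    obtain ⟨S, V', hV', hxV', hfix⟩ := exists_fixed I (mres (∐ I) hVW y) hxV
    rw [mres_mres] at hfix
    let p := hU.primeIdealOf ⟨x, hW hx⟩
    have hp : pt hU p = x := pt_primeIdealOf hU ⟨x, hW hx⟩
    have h1 : (ores (hV'.trans hVU) a, ores (hV'.trans hVU) s • mres (∐ I) (hV'.trans hVW) y) ∈ q V' := by
      have := (q V').smul_mem (ores (hV'.trans hVU) s) (qres (hV'.trans hVW) hry)
      rw [Prod.smul_mk, smul_eq_mul, mul_comm] at this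
      rwa [← ores_ores hVU hV', ← e, map_mul, ores_ores, ores_ores]
    have ha : a ∈ K (S₀ ∪ S) p := ⟨V', hV'.trans hVU, _, by rw [hp]; exact hxV', h1, by
      rw [Scheme.Modules.Hom.app_smul, fixed_mono I Finset.subset_union_right hfix]⟩
    rw [hS₀ _ Finset.subset_union_left] at ha
    obtain ⟨V'', hV''U, y', hpV'', hy', he'⟩ := ha
    rw [hp] at hpV''
    let T := V' ⊓ V'' ⊓ X.basicOpen s
    have hT : T ≤ W := (inf_le_left.trans inf_le_left).trans (hV'.trans hVW)
    refine ⟨T, hT, ⟨⟨hxV', hpV''⟩, hxs⟩, ?_⟩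
    have hu : IsUnit (ores (inf_le_right.trans (X.basicOpen_le s) : T ≤ U) s) := by
      rw [← ores_ores (X.basicOpen_le s) (inf_le_right : T ≤ X.basicOpen s)]
      exact (RingedSpace.isUnit_res_basicOpen _ s).map _
    have h2 := qres (inf_le_left.trans inf_le_left : T ≤ V') h1
    have h3 := qres (inf_le_left.trans inf_le_right : T ≤ V'') hy'
    simp only [ores_ores, mres_smul, mres_mres] at h2 h3
    have h4 : mres (∐ I) (inf_le_left.trans inf_le_right : T ≤ V'') y' =
        ores (inf_le_right.trans (X.basicOpen_le s) : T ≤ U) s • mres (∐ I) hT y := by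
      have := (q T).sub_mem h3 h2
      rw [Prod.mk_sub_mk, sub_self] at this
      exact sub_eq_zero.1 (hfn T _ (inf_le_right.trans (X.basicOpen_le s)) this)
    have h5 : (eS I S₀).app T (mres (∐ I) (inf_le_left.trans inf_le_right : T ≤ V'') y') =
        mres (∐ I) (inf_le_left.trans inf_le_right : T ≤ V'') y' := by
      rw [← GenLocus.app_mres, he']
    rw [h4, Scheme.Modules.Hom.app_smul] at h5
    rw [map_sub, GenLocus.app_mres, sub_eq_zero]
    exact hu.smul_left_cancel.1 h5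
  have hj : ∀ j, ∃ y₀ : Γ(I j, U), ∀ (W : X.Opens) (h : W ≤ U) (a : Γ(X, W)) (y : Γ(∐ I, W)),
      (a, y) ∈ q W → (cproj I j).app W y = a • mres (I j) h y₀ := by
    intro j
    refine (hI j (fun W => (q W).map (LinearMap.id.prodMap (SheafHomLib.appL (cproj I j) W))) ?_ ?_).imp
      fun y₀ hy₀ W h a y hy => hy₀ W h a _ ⟨(a, y), hy, rfl⟩
    · rintro W W' h _ ⟨⟨a, y⟩, hy, rfl⟩
      exact ⟨_, qres h hy, Prod.ext rfl (GenLocus.app_mres (cproj I j) h y).symm⟩
    · rintro W z hW ⟨⟨a, y⟩, hy, he⟩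
      obtain rfl : a = 0 := congrArg Prod.fst he
      rw [← show (cproj I j).app W y = z from congrArg Prod.snd he, hfn W y hW hy, map_zero]
  choose z hz using hj
  refine ⟨∑ j ∈ S₀, (Sigma.ι I j).app U (z j), fun W h a y hy => ?_⟩
  rw [← key W h a y hy, eS, FlatModLib.app_sum, map_sum, Finset.smul_sum]
  refine Finset.sum_congr rfl fun j _ => ?_
  rw [Scheme.Modules.Hom.comp_app, ConcreteCategory.comp_apply, hz j W h a y hy, Scheme.Modules.Hom.app_smul,
    GenLocus.app_mres]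

end Coprod

end Groth.Agent.NoethMod
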