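import Groth.Agent.NoethMod.QInj
import Groth.Agent.GabLocLib.Hull
import Groth.Agent.QCohBase.Criteria
import Groth.Agent.DCohBridge.PushDerived

/-!
# Injective hulls of quasi-coherent modules on locally Noetherian schemes are quasi-coherent
-/

set_option autoImplicit false
set_option linter.style.haveILetI false

noncomputable section

universe u

open CategoryTheory CategoryTheory.Limits AlgebraicGeometry TopologicalSpace Opposite
open Groth.Agent.QCohBase Groth.Agent.GabLocLib

namespace Groth.Agent.NoethMod

section Restrict

variable {U X : Scheme.{u}} (j : U ⟶ X) [IsOpenImmersion j]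

instance mono_extZero_counit (T : X.Modules) : Mono ((CxOX.extZeroAdj j).counit.app T) := by
  let R := Scheme.Modules.restrictFunctor j
  let c := (CxOX.extZeroAdj j).counit.app T
  haveI : IsIso (R.map c) := IsIso.of_isIso_fac_left ((CxOX.extZeroAdj j).right_triangle_components T)
  refine Preadditive.mono_of_kernel_zero (f := c) ?_
  refine (DCohBridge.isZero_of_support j
    (DCohBridge.suppIn_of_mono j (kernel.ι c) (DCohBridge.suppIn_extZero j _)) ?_).eq_of_src _ _
  exact (isZero_kernel_of_mono (R.map c)).of_iso (PreservesKernel.iso R c)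

/-- Restriction to an open subscheme preserves essential monomorphisms. -/
theorem essential_restrict {J I : X.Modules} (i : J ⟶ I) [Mono i] (hi : Essential i) :
    Essential ((Scheme.Modules.restrictFunctor j).map i) := by
  intro Z g hg
  let R := Scheme.Modules.restrictFunctor j
  let k : kernel g ⟶ R.obj I := kernel.ι g
  let m : (CxOX.extZero j).obj (kernel g) ⟶ I := (CxOX.extZero j).map k ≫ (CxOX.extZeroAdj j).counit.app I
  haveI : Mono m := mono_comp _ _
  let π := cokernel.π m
  have hmono : Mono (i ≫ π) := by
    refine Preadditive.mono_of_kernel_zero (f := i ≫ π) ?_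
    let l := kernel.ι (i ≫ π)
    have hz : (l ≫ i) ≫ π = 0 := by rw [Category.assoc]; exact kernel.condition _
    let t := Abelian.monoLift m (l ≫ i) hz
    have ht : t ≫ m = l ≫ i := Abelian.monoLift_comp _ _ _
    haveI : Mono t := mono_of_mono_fac ht
    refine (DCohBridge.isZero_of_support j
      (DCohBridge.suppIn_of_mono j t (DCohBridge.suppIn_extZero j _)) ?_).eq_of_src _ _
    haveI : IsIso (R.map ((CxOX.extZeroAdj j).counit.app I)) :=
      IsIso.of_isIso_fac_left ((CxOX.extZeroAdj j).right_triangle_components I)
    have hk : R.map ((CxOX.extZero j).map k) ≫ R.map ((CxOX.extZeroAdj j).counit.app I) =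
        inv ((CxOX.extZeroAdj j).unit.app (kernel g)) ≫ k := by
      rw [IsIso.eq_inv_comp, ← Category.assoc]
      erw [← (CxOX.extZeroAdj j).unit.naturality k]
      rw [Category.assoc]
      erw [(CxOX.extZeroAdj j).right_triangle_components I]
      simp [R]
    have h0 : R.map l ≫ R.map i ≫ g = 0 := by
      rw [← Category.assoc, ← Functor.map_comp, ← ht, Functor.map_comp, Functor.map_comp, hk]
      simp [k]
    haveI := hg
    have hl : R.map l = 0 := by
      rw [← cancel_mono (R.map i ≫ g), h0, zero_comp]
    rw [IsZero.iff_id_eq_zero, ← cancel_mono (R.map l), hl, comp_zero, comp_zero]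
  haveI : Mono π := hi π hmono
  have hm : m = 0 := by
    rw [← cancel_mono π, cokernel.condition, zero_comp]
  refine Preadditive.mono_of_kernel_zero (f := g) ?_
  have hZ : IsZero ((CxOX.extZero j).obj (kernel g)) := by
    rw [IsZero.iff_id_eq_zero, ← cancel_mono m, hm, comp_zero, comp_zero]
  have hz : IsZero (kernel g) :=
    (Functor.map_isZero R hZ).of_iso (asIso ((CxOX.extZeroAdj j).unit.app (kernel g)))
  exact hz.eq_of_src _ _

end Restrict

section Spec

variable {R : CommRingCat.{u}} [IsNoetherianRing R]

/-- The tilde of an essential extension is essential. -/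
theorem essential_tilde {M E : ModuleCat.{u} R} (f : M ⟶ E) (hf : InjHull.IsEssentialInj f.hom) :
    Essential (tilde.map f) := by
  intro Z g hg
  haveI := hg
  refine Preadditive.mono_of_kernel_zero (f := g) ((DCohBridge.isZero_of_stalk fun p => ?_).eq_of_src _ _)
  let F := DerSch.stalkFunctor (Spec R) p
  haveI : Mono (F.map (tilde.map f ≫ g)) := inferInstance
  have hfg : Function.Injective (F.map (tilde.map f ≫ g)).hom := (ModuleCat.mono_iff_injective _).1 inferInstance
  suffices Mono (F.map g) from (isZero_kernel_of_mono (F.map g)).of_iso (PreservesKernel.iso F g)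
  rw [ModuleCat.mono_iff_injective, injective_iff_map_eq_zero]
  intro z hz
  by_contra hz0
  let S := (show PrimeSpectrum R from p).asIdeal.primeCompl
  let e : LocalizedModule S E ≃ₗ[R] ModuleCat.of R ((tilde E).presheaf.stalk p) :=
    IsLocalizedModule.iso S (tilde.toStalk E p).hom
  have hsm : ∀ (r : R) (w : ModuleCat.of R ((tilde E).presheaf.stalk p)),
      (show F.obj (tilde E) from r • w) = cgerm p r • (show F.obj (tilde E) from w) := by
    intro r w
    rfl
  let L : Submodule (Localization S) (LocalizedModule S E) :=
    { carrier := {x | (F.map g).hom (show F.obj (tilde E) from e x) = 0}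
      zero_mem' := by
        change (F.map g).hom (show F.obj (tilde E) from e 0) = 0
        rw [map_zero]; exact map_zero _
      add_mem' := fun {x y} (hx : _ = _) (hy : _ = _) => by
        change (F.map g).hom (show F.obj (tilde E) from e (x + y)) = 0
        rw [map_add]
        exact (map_add (F.map g).hom _ _).trans (by rw [hx, hy, add_zero])
      smul_mem' := fun c x (hx : _ = _) => by
        obtain ⟨⟨r, s⟩, hc⟩ := IsLocalization.surj S c
        have h2 : (s : R) • (c • x) = r • x := by
          rw [← algebraMap_smul (Localization S) (s : R), smul_smul, mul_comm, hc, algebraMap_smul]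
        have hu : IsUnit (cgerm p (s : R)) := by
          letI : Algebra R ((Spec R).presheaf.stalk p) := StructureSheaf.stalkAlgebra R p
          haveI : IsLocalization.AtPrime ((Spec R).presheaf.stalk p) (show PrimeSpectrum R from p).asIdeal :=
            StructureSheaf.IsLocalization.to_stalk R p
          exact IsLocalization.map_units ((Spec R).presheaf.stalk p) s
        change (F.map g).hom (show F.obj (tilde E) from e (c • x)) = 0
        refine hu.smul_eq_zero.1 ?_
        rw [← map_smul, ← hsm, ← map_smul e, h2, map_smul e, hsm, map_smul]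
        exact (congrArg _ hx).trans (smul_zero _) }
  have hL : L ≠ ⊥ := fun h => hz0 (by
    have h1 : e.symm z ∈ L := by
      change (F.map g).hom (show F.obj (tilde E) from e (e.symm z)) = 0
      rw [LinearEquiv.apply_symm_apply]
      exact hz
    rw [h, Submodule.mem_bot] at h1
    exact (e.apply_symm_apply z).symm.trans ((congrArg e h1).trans (map_zero e)))
  refine InjHullBasic.localized_essential S (LinearMap.range f.hom) hf.essential L hL ?_
  rw [eq_bot_iff]
  rintro x ⟨hxL, hxN⟩
  obtain ⟨_, ⟨m, rfl⟩, s, rfl⟩ := hxN
  rw [Submodule.mem_bot, IsLocalizedModule.mk'_eq_zero']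
  have h1 : LocalizedModule.mkLinearMap S E (f.hom m) ∈ L := by
    have := L.smul_mem (algebraMap R (Localization S) (s : R)) hxL
    rwa [algebraMap_smul, ← Submonoid.smul_def, IsLocalizedModule.mk'_cancel'] at this
  have h2 : (F.map (tilde.map f ≫ g)).hom (show F.obj (tilde M) from (tilde.toStalk M p).hom m) = 0 := by
    rw [Functor.map_comp]
    refine Eq.trans ?_ h1
    change (F.map g).hom ((F.map (tilde.map f)).hom _) = _
    congr 1
    rw [show e (LocalizedModule.mkLinearMap S E (f.hom m)) = (tilde.toStalk E p).hom (f.hom m) from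
      IsLocalizedModule.iso_mk_one (S := S) (tilde.toStalk E p).hom (f.hom m)]
    refine (DerSch.stalkFunctor_map_germ p (tilde.map f) ⊤ trivial _).trans ?_
    exact congrArg ((tilde E).presheaf.germ ⊤ p trivial)
      (ConcreteCategory.congr_hom (tilde.toOpen_map_app f ⊤) m)
  have h3 : (tilde.toStalk M p).hom m = 0 := (injective_iff_map_eq_zero _).1 hfg _ h2
  obtain ⟨c, hc⟩ := (IsLocalizedModule.eq_zero_iff S (tilde.toStalk M p).hom).1 h3
  exact ⟨c, by rw [Submonoid.smul_def] at hc ⊢; rw [← map_smul, hc, map_zero]⟩

/-- An essential injective extension of a quasi-coherent module on an affine Noetherian scheme. -/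
theorem exists_tilde_hull (M : ModuleCat.{u} R) :
    ∃ (E : ModuleCat.{u} R) (f : tilde M ⟶ tilde E), Injective (tilde E) ∧ Mono f ∧ Essential f := by
  obtain ⟨E, _, _, f, hf⟩ := InjHullBasic.exists_isInjectiveHull R M
  haveI : Module.Injective R (ModuleCat.of R E) := hf.isInjective
  refine ⟨ModuleCat.of R E, tilde.map (ModuleCat.ofHom f), injective_tilde _, ?_,
    essential_tilde _ hf.toIsEssentialInj⟩
  haveI : Mono (ModuleCat.ofHom f) := (ModuleCat.mono_iff_injective _).2 hf.injective
  exact inferInstanceAs (Mono ((tilde.functor R).map (ModuleCat.ofHom f)))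

end Spec

/-- Hulls of quasi-coherent modules are quasi-coherent. -/
theorem isQuasicoherent_hull {X : Scheme.{u}} [IsLocallyNoetherian X] {J I : X.Modules} [J.IsQuasicoherent]
    [Injective I] (k : J ⟶ I) [Mono k] (hk : Essential k) : I.IsQuasicoherent := by
  refine isQuasicoherent_of_affine fun x => ?_
  obtain ⟨U, hU, hxU, -⟩ := Opens.isBasis_iff_nbhd.1 X.isBasis_affineOpens (U := ⊤) (Opens.mem_top x)
  refine ⟨U, hU, hxU, ?_⟩
  haveI := isNoetherianRing_sections hU
  let R := Scheme.Modules.restrictFunctor hU.fromSpec
  let M := (modulesSpecToSheaf.obj (J.restrict hU.fromSpec)).presheaf.obj (op ⊤)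
  haveI : IsIso (J.restrict hU.fromSpec).fromTildeΓ :=
    (isIso_fromTildeΓ_iff_isLocalizing _).2 (isLocalizing_restrict J hU)
  let e : R.obj J ≅ tilde M := (asIso (J.restrict hU.fromSpec).fromTildeΓ).symm
  obtain ⟨E, f, hE, hf, hfe⟩ := exists_tilde_hull M
  haveI := hE
  haveI := hf
  haveI : Injective (R.obj I) := injective_restrict hU.fromSpec I ‹_›
  haveI : Mono (R.map k) := inferInstance
  let k' : R.obj J ⟶ R.obj I := R.map k
  let k'' : R.obj J ⟶ tilde E := e.hom ≫ f
  have hk'' : Essential k'' := (essential_of_isIso e.hom).comp hfe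
  let φ : R.obj I ⟶ tilde E := Injective.factorThru k'' k'
  have hφ : k' ≫ φ = k'' := Injective.comp_factorThru _ _
  haveI : Mono φ := essential_restrict hU.fromSpec k hk φ (by
    change Mono (k' ≫ φ)
    rw [hφ]; infer_instance)
  let r : tilde E ⟶ R.obj I := Injective.factorThru (𝟙 _) φ
  have hr : φ ≫ r = 𝟙 _ := Injective.comp_factorThru _ _
  have hr' : k'' ≫ r = k' := by rw [← hφ, Category.assoc, hr, Category.comp_id]
  haveI : Mono r := hk'' r (by rw [hr']; infer_instance)
  let ei : tilde E ≅ R.obj I := ⟨r, φ, by rw [← cancel_mono r, Category.assoc, hr, Category.comp_id, Category.id_comp], hr⟩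
  haveI : (I.restrict hU.fromSpec).IsQuasicoherent :=
    (SheafOfModules.isQuasicoherent (Spec Γ(X, U)).ringCatSheaf).prop_of_iso ei inferInstance
  infer_instance

end Groth.Agent.NoethMod
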