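import Groth.Agent.SheafHomLib.InjLocal
import Groth.Agent.DCohBridge.StalkExact
import Mathlib.Algebra.Module.Injective
import Mathlib.AlgebraicGeometry.Modules.Tilde
import Mathlib.AlgebraicGeometry.Stalk

/-!
# Modules with sections concentrated at the generizations of a point
-/

set_option autoImplicit false
set_option linter.style.haveILetI false

noncomputable section

universe u

open CategoryTheory CategoryTheory.Limits AlgebraicGeometry TopologicalSpace Opposite
open Groth.Agent.QCohBase Groth.Agent.SheafHomLib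

namespace Groth.Agent.NoethMod

variable {X : Scheme.{u}}

/-- A module whose sections are an injective stalk module at a point lifts ideals. -/
theorem liftsIdeals_of_point (J : X.Modules) (U : X.Opens) (η : X) (hη : η ∈ U) (E : Type u)
    [AddCommGroup E] [Module (X.presheaf.stalk η) E] [Module.Injective (X.presheaf.stalk η) E]
    (ε : ∀ W : X.Opens, η ∈ W → (Γ(J, W) →+ E))
    (hres : ∀ {W W' : X.Opens} (h : W' ≤ W) (hW' : η ∈ W') (y : Γ(J, W)),
      ε W' hW' (mres J h y) = ε W (h hW') y)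
    (hsmul : ∀ (W : X.Opens) (hW : η ∈ W) (a : Γ(X, W)) (y : Γ(J, W)),
      ε W hW (a • y) = X.presheaf.germ W η hW a • ε W hW y)
    (hinj : ∀ (W : X.Opens), W ≤ U → ∀ hW : η ∈ W, Function.Injective (ε W hW))
    (hsurj : Function.Surjective (ε U hη))
    (hzero : ∀ (W : X.Opens), W ≤ U → η ∉ W → ∀ y : Γ(J, W), y = 0) :
    LiftsIdeals J U := by
  intro q qres hfn
  let T : Submodule (X.presheaf.stalk η) (X.presheaf.stalk η × E) :=
    { carrier := {p | ∃ (W : X.Opens) (_ : W ≤ U) (hW : η ∈ W) (a : Γ(X, W)) (y : Γ(J, W)),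
        (a, y) ∈ q W ∧ (X.presheaf.germ W η hW a, ε W hW y) = p}
      zero_mem' := ⟨U, le_rfl, hη, 0, 0, (q U).zero_mem, by simp⟩
      add_mem' := by
        rintro _ _ ⟨W, hW, hηW, a, y, hy, rfl⟩ ⟨W', hW', hηW', a', y', hy', rfl⟩
        refine ⟨W ⊓ W', inf_le_left.trans hW, ⟨hηW, hηW'⟩, _, _,
          (q _).add_mem (qres (inf_le_left : W ⊓ W' ≤ W) hy) (qres (inf_le_right : W ⊓ W' ≤ W') hy'), ?_⟩
        simp only [map_add, Prod.mk_add_mk, hres, TopCat.Presheaf.germ_res_apply]
      smul_mem' := by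
        rintro σ _ ⟨W, hW, hηW, a, y, hy, rfl⟩
        obtain ⟨V, hηV, c, rfl⟩ := TopCat.Presheaf.exists_germ_eq X.presheaf σ
        refine ⟨W ⊓ V, inf_le_left.trans hW, ⟨hηW, hηV⟩, _, _,
          (q _).smul_mem (ores inf_le_right c) (qres (inf_le_left : W ⊓ V ≤ W) hy), ?_⟩
        simp only [Prod.smul_mk, smul_eq_mul, map_mul, hsmul, hres, TopCat.Presheaf.germ_res_apply] }
  let i : T →ₗ[X.presheaf.stalk η] X.presheaf.stalk η := LinearMap.fst _ _ _ ∘ₗ T.subtype
  have hi : Function.Injective i := by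
    refine (injective_iff_map_eq_zero i).2 fun p hp => ?_
    obtain ⟨W, hW, hηW, a, y, hy, he⟩ := p.2
    have ha : X.presheaf.germ W η hηW a = X.presheaf.germ W η hηW 0 := by
      rw [map_zero]; exact (congrArg Prod.fst he).trans hp
    obtain ⟨V, hV, j, j', e⟩ := TopCat.Presheaf.germ_eq X.presheaf η hηW hηW _ _ ha
    have h1 := qres j.le hy
    rw [show ores j.le a = 0 from e.trans (map_zero _)] at h1
    have h2 : ε W hηW y = 0 := by
      rw [← hres j.le hV, hfn V _ (j.le.trans hW) h1, map_zero]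
    exact Subtype.ext (Prod.ext hp ((congrArg Prod.snd he).symm.trans h2))
  obtain ⟨k, hk⟩ := Module.Injective.out i hi (LinearMap.snd _ _ _ ∘ₗ T.subtype)
  obtain ⟨y₀, hy₀⟩ := hsurj (k 1)
  refine ⟨y₀, fun W hW a y hy => ?_⟩
  by_cases hηW : η ∈ W
  · refine hinj W hW hηW ?_
    rw [hsmul, hres, hy₀, ← map_smul, smul_eq_mul, mul_one]
    exact (hk ⟨_, W, hW, hηW, a, y, hy, rfl⟩).symm
  · rw [hzero W hW hηW y, hzero W hW hηW (a • mres J hW y₀)]

/-- A module without sections on the opens of `U` lifts ideals. -/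
theorem liftsIdeals_of_zero (J : X.Modules) (U : X.Opens)
    (h : ∀ (W : X.Opens), W ≤ U → ∀ y : Γ(J, W), y = 0) : LiftsIdeals J U := fun _ _ _ =>
  ⟨0, fun W hW a y _ => (h W hW y).trans (h W hW _).symm⟩

/-- Sections of the tilde of a torsion module vanish away from the torsion locus. -/
theorem tilde_sections_zero {R : CommRingCat.{u}} (M : ModuleCat.{u} R) (W : (Spec R).Opens)
    (h : ∀ p : PrimeSpectrum R, p ∈ W → ∀ m : M, ∃ t ∉ p.asIdeal, t • m = 0)
    (y : Γ(tilde M, W)) : y = 0 := by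
  refine TopCat.Presheaf.section_ext (C := AddCommGrpCat.{u}) ⟨(tilde M).presheaf, (tilde M).isSheaf⟩ W _ _
    fun p hp => ?_
  haveI : Subsingleton ((tilde M).presheaf.stalk p) := by
    refine subsingleton_of_forall_eq 0 fun z => ?_
    obtain ⟨⟨m, s⟩, hz⟩ := IsLocalizedModule.surj p.asIdeal.primeCompl (tilde.toStalk M p).hom z
    obtain ⟨t, ht, htm⟩ := h p hp m
    have h1 : (tilde.toStalk M p).hom m = 0 :=
      (IsLocalizedModule.eq_zero_iff p.asIdeal.primeCompl (tilde.toStalk M p).hom).2 ⟨⟨t, ht⟩, htm⟩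
    rw [h1] at hz
    exact ((Module.End.isUnit_iff _).1
      (IsLocalizedModule.map_units (tilde.toStalk M p).hom s)).1 (hz.trans (map_zero _).symm)
  exact Subsingleton.elim _ _

end Groth.Agent.NoethMod
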