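import Groth.Agent.NoethMod.Point
import Groth.Agent.NoethMod.Coprod
import Groth.Agent.QCohBase.Finite
import Groth.Agent.QCohBase.Localization
import Groth.Agent.InjHullBasic.Noetherian
import Groth.Agent.DCohBridge.ExtZero

/-!
# Injective quasi-coherent modules on locally Noetherian schemes
-/

set_option autoImplicit false
set_option linter.style.haveILetI false

noncomputable section

universe u

open CategoryTheory CategoryTheory.Limits AlgebraicGeometry TopologicalSpace Opposite
open Groth.Agent.QCohBase Groth.Agent.SheafHomLib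

namespace Groth.Agent.NoethMod

lemma gm_smul' {X : Scheme.{u}} (M : X.Modules) (U : X.Opens) {x : X} (hx : x ∈ U) (r : Γ(X, U))
    (s : Γ(M, U)) : DCohBridge.gmM M U hx (r • s) = X.presheaf.germ U x hx r • DCohBridge.gmM M U hx s :=
  DCohBridge.gmM_smul M U hx r s

lemma gm_smul_spec {R : CommRingCat.{u}} (M : (Spec R).Modules) (W : (Spec R).Opens) (q : Spec R)
    (hq : q ∈ W) (r : R) (y : Γ(M, W)) :
    DCohBridge.gmM M W hq (r • y) =
      (Spec R).presheaf.germ ⊤ q trivial ((Scheme.ΓSpecIso R).inv r) • DCohBridge.gmM M W hq y := by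
  rw [Scheme.Modules.smul_Spec_def, gm_smul', TopCat.Presheaf.germ_res_apply]

section Spec

variable {R : CommRingCat.{u}}

/-- The germ of a constant. -/
def cgerm (p : PrimeSpectrum R) : R →+* (Spec R).presheaf.stalk p :=
  ((Scheme.ΓSpecIso R).inv ≫ (Spec R).presheaf.germ ⊤ p trivial).hom

lemma toStalk_smul (M : ModuleCat.{u} R) (p : PrimeSpectrum R) (r : R) (m : M) :
    (tilde.toStalk M p).hom (r • m) = cgerm p r • (show (tilde M).presheaf.stalk p from (tilde.toStalk M p).hom m) := by
  let s : Γ(tilde M, ⊤) := (tilde.toOpen M ⊤).hom m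
  have h1 : (tilde.toOpen M ⊤).hom (r • m) = r • s := map_smul _ r m
  change DCohBridge.gmM (tilde M) ⊤ trivial ((tilde.toOpen M ⊤).hom (r • m)) =
    cgerm p r • DCohBridge.gmM (tilde M) ⊤ trivial s
  rw [h1]
  exact gm_smul_spec (tilde M) ⊤ p trivial r s

lemma exists_fraction_spec (p : PrimeSpectrum R) (σ : (Spec R).presheaf.stalk p) :
    ∃ a s : R, s ∉ p.asIdeal ∧ σ * cgerm p s = cgerm p a ∧ IsUnit (cgerm p s) := by
  letI : Algebra R ((Spec R).presheaf.stalk p) := StructureSheaf.stalkAlgebra R p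
  haveI : IsLocalization.AtPrime ((Spec R).presheaf.stalk p) p.asIdeal :=
    StructureSheaf.IsLocalization.to_stalk R p
  obtain ⟨⟨a, s⟩, h⟩ := IsLocalization.surj p.asIdeal.primeCompl σ
  exact ⟨a, s.1, s.2, h, IsLocalization.map_units ((Spec R).presheaf.stalk p) s⟩

/-- The tilde of the hull of a prime quotient lifts ideals. -/
theorem liftsIdeals_tilde_hull [IsNoetherianRing R] (E : ModuleCat.{u} R) (p : PrimeSpectrum R)
    (f : (R ⧸ p.asIdeal) →ₗ[R] E) (hf : InjHull.IsInjectiveHull f) : LiftsIdeals (tilde E) ⊤ := by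
  haveI := hf.isInjective
  have hbij : ∀ s ∉ p.asIdeal, Function.Bijective (fun e : E => s • e) :=
    fun s hs => InjHullBasic.smul_bijective_of_prime hf hs
  have htor := InjHullBasic.isPowerTorsion_of_prime hf
  let S := (tilde E).presheaf.stalk p
  let τ : E → S := fun e => (tilde.toStalk E p).hom e
  have hτ_smul : ∀ (r : R) e, τ (r • e) = cgerm p r • τ e := fun r e => toStalk_smul E p r e
  have hτ : Function.Bijective τ := by
    refine ⟨fun a b hab => ?_, fun z => ?_⟩
    · obtain ⟨c, hc⟩ := (IsLocalizedModule.eq_iff_exists p.asIdeal.primeCompl (tilde.toStalk E p).hom).1 hab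
      exact (hbij c.1 c.2).1 hc
    · obtain ⟨⟨m, s⟩, hz⟩ := IsLocalizedModule.surj p.asIdeal.primeCompl (tilde.toStalk E p).hom z
      obtain ⟨e, he⟩ := (hbij s.1 s.2).2 m
      refine ⟨e, ((Module.End.isUnit_iff _).1 (IsLocalizedModule.map_units (tilde.toStalk E p).hom s)).1 ?_⟩
      change (s.1 : R) • (tilde.toStalk E p).hom e = (s.1 : R) • z
      rw [← map_smul]
      exact (congrArg (tilde.toStalk E p).hom he).trans hz.symm
  haveI : Module.Injective ((Spec R).presheaf.stalk p) S := by
    refine Module.Baer.injective fun 𝔟 g => ?_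
    let τ' : E ≃+ S := AddEquiv.ofBijective (AddMonoidHom.mk' τ fun a b => map_add _ a b) hτ
    let φ : (𝔟.comap (cgerm p)) →ₗ[R] E :=
      { toFun := fun a => τ'.symm (g ⟨cgerm p a.1, a.2⟩)
        map_add' := fun a b => by
          rw [← map_add, ← map_add]
          congr 1
          exact congrArg g (Subtype.ext (map_add (cgerm p) a.1 b.1))
        map_smul' := fun r a => by
          apply τ'.injective
          rw [AddEquiv.apply_symm_apply, RingHom.id_apply]
          refine Eq.trans ?_ (hτ_smul r _).symm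
          rw [show τ (τ'.symm (g ⟨cgerm p a.1, a.2⟩)) = g ⟨cgerm p a.1, a.2⟩ from τ'.apply_symm_apply _,
            ← map_smul]
          exact congrArg g (Subtype.ext (map_mul (cgerm p) r a.1)) }
    obtain ⟨k, hk⟩ := Module.Injective.out (𝔟.comap (cgerm p)).subtype Subtype.val_injective φ
    refine ⟨LinearMap.toSpanSingleton _ _ (τ (k 1)), fun σ hσ => ?_⟩
    obtain ⟨a, s, -, he, hu⟩ := exists_fraction_spec p σ
    have ha : a ∈ 𝔟.comap (cgerm p) := Ideal.mem_comap.2 (he ▸ 𝔟.mul_mem_right _ hσ)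
    have h1 : cgerm p a • τ (k 1) = g ⟨cgerm p a, ha⟩ := by
      rw [← hτ_smul, ← map_smul, smul_eq_mul, mul_one,
        show k a = φ ⟨a, ha⟩ from hk ⟨a, ha⟩]
      exact τ'.apply_symm_apply _
    refine hu.smul_left_cancel.1 ?_
    rw [LinearMap.toSpanSingleton_apply, smul_smul, mul_comm, he, h1, ← map_smul]
    exact congrArg g (Subtype.ext (by simp only [SetLike.val_smul, smul_eq_mul]; rw [mul_comm, he]))
  have hzero : ∀ (W : (Spec R).Opens), p ∉ W → ∀ y : Γ(tilde E, W), y = 0 := fun W hW y => by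
    refine tilde_sections_zero E W (fun q hq m => ?_) y
    have hne : ¬ p.asIdeal ≤ q.asIdeal := fun h =>
      hW (((PrimeSpectrum.le_iff_specializes p q).1 h).mem_open W.2 hq)
    obtain ⟨t, ht, htq⟩ := SetLike.not_le_iff_exists.1 hne
    obtain ⟨n, hn⟩ := htor m
    exact ⟨t ^ n, fun h => htq (q.isPrime.mem_of_pow_mem _ h), hn _ (Ideal.pow_mem_pow ht n)⟩
  refine liftsIdeals_of_point (tilde E) ⊤ p trivial S (fun W hW => DCohBridge.gmM (tilde E) W hW)
    (fun h hW' y => TopCat.Presheaf.germ_res_apply (C := AddCommGrpCat.{u}) (tilde E).presheaf _ p hW' y)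
    (fun W hW a y => DCohBridge.gmM_smul (tilde E) W hW a y) (fun W _ hW => ?_) ?_ (fun W _ hW => hzero W hW)
  · refine (injective_iff_map_eq_zero _).2 fun y hy => ?_
    refine TopCat.Presheaf.section_ext (C := AddCommGrpCat.{u}) ⟨(tilde E).presheaf, (tilde E).isSheaf⟩ W _ _
      fun q hq => ?_
    refine Eq.trans ?_ (map_zero _).symm
    let z : (tilde E).presheaf.stalk q := DCohBridge.gmM (tilde E) W hq y
    change z = 0
    obtain ⟨⟨m, s⟩, hz⟩ := IsLocalizedModule.surj q.asIdeal.primeCompl (tilde.toStalk E q).hom z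
    refine ((Module.End.isUnit_iff _).1 (IsLocalizedModule.map_units (tilde.toStalk E q).hom s)).1
      (Eq.trans ?_ (map_zero _).symm)
    change (s.1 : R) • z = 0
    refine hz.trans ((IsLocalizedModule.eq_zero_iff q.asIdeal.primeCompl (tilde.toStalk E q).hom).2 ?_)
    by_cases hpq : p.asIdeal ≤ q.asIdeal
    · let s' : R := s.1
      let t : Γ(tilde E, W) := mres (tilde E) (le_top : W ≤ ⊤) ((tilde.toOpen E ⊤).hom m)
      let d : Γ(tilde E, W) := s' • y - t
      have h1 : DCohBridge.gmM (tilde E) W hq d = 0 := by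
        refine (map_sub (DCohBridge.gmM (tilde E) W hq) (s' • y) t).trans (sub_eq_zero.2 ?_)
        refine Eq.trans ?_ (hz.trans
          (TopCat.Presheaf.germ_res_apply (C := AddCommGrpCat.{u}) (tilde E).presheaf _ q hq
            ((tilde.toOpen E ⊤).hom m)).symm)
        exact gm_smul_spec (tilde E) W q hq s' y
      obtain ⟨V, hqV, i, j, e⟩ := TopCat.Presheaf.germ_eq (C := AddCommGrpCat.{u}) (tilde E).presheaf q
        hq hq d 0 (h1.trans (map_zero _).symm)
      have hpV : p ∈ V := ((PrimeSpectrum.le_iff_specializes p q).1 hpq).mem_open V.2 hqV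
      have h2 : DCohBridge.gmM (tilde E) W hW d = 0 := by
        refine (TopCat.Presheaf.germ_res_apply (C := AddCommGrpCat.{u}) (tilde E).presheaf i p hpV d).symm.trans ?_
        rw [e, map_zero, map_zero]
      replace h2 := sub_eq_zero.1 ((map_sub (DCohBridge.gmM (tilde E) W hW) (s' • y) t).symm.trans h2)
      rw [show DCohBridge.gmM (tilde E) W hW (s' • y) = 0 from
        (gm_smul_spec (tilde E) W p hW s' y).trans ((congrArg _ hy).trans (smul_zero _))] at h2
      refine ⟨1, ?_⟩
      rw [one_smul]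
      refine hτ.1 (Eq.trans ?_ (map_zero (tilde.toStalk E p).hom).symm)
      exact (TopCat.Presheaf.germ_res_apply (C := AddCommGrpCat.{u}) (tilde E).presheaf _ p hW _).symm.trans h2.symm
    · obtain ⟨t, ht, htq⟩ := SetLike.not_le_iff_exists.1 hpq
      obtain ⟨n, hn⟩ := htor m
      exact ⟨⟨t ^ n, fun h => htq (q.isPrime.mem_of_pow_mem _ h)⟩, hn _ (Ideal.pow_mem_pow ht n)⟩
  · intro z
    obtain ⟨e, rfl⟩ := hτ.2 z
    exact ⟨(tilde.toOpen E ⊤).hom e, rfl⟩

/-- `LiftsIdeals` only depends on the isomorphism class. -/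
theorem liftsIdeals_of_iso {X : Scheme.{u}} {J J' : X.Modules} (e : J ≅ J') {U : X.Opens}
    (h : LiftsIdeals J U) : LiftsIdeals J' U := by
  intro q qres hfn
  have hinv : ∀ (W : X.Opens) (y : Γ(J', W)), e.hom.app W (e.inv.app W y) = y := fun W y =>
    ConcreteCategory.congr_hom (congrArg (fun t : J' ⟶ J' => t.app W) e.inv_hom_id) y
  obtain ⟨y₀, hy₀⟩ := h (fun W => (q W).map (LinearMap.id.prodMap (SheafHomLib.appL e.inv W)))
    (by
      rintro W W' h _ ⟨⟨a, y⟩, hy, rfl⟩
      exact ⟨_, qres h hy, Prod.ext rfl (GenLocus.app_mres e.inv h y).symm⟩)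
    (by
      rintro W z hW ⟨⟨a, y⟩, hy, he⟩
      obtain rfl : a = 0 := congrArg Prod.fst he
      rw [← show e.inv.app W y = z from congrArg Prod.snd he, hfn W y hW hy, map_zero])
  refine ⟨e.hom.app U y₀, fun W hW a y hy => ?_⟩
  rw [← hinv W y, show e.inv.app W y = a • mres J hW y₀ from hy₀ W hW a _ ⟨(a, y), hy, rfl⟩,
    Scheme.Modules.Hom.app_smul, GenLocus.app_mres]

/-- The tilde of an injective module over a Noetherian ring is injective. -/
theorem injective_tilde [IsNoetherianRing R] (M : ModuleCat.{u} R) [Module.Injective R M] :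
    Injective (tilde M) := by
  classical
  obtain ⟨s, hs, htop, hE⟩ := InjHullBasic.exists_isInternal_indecomposable (R := R) M
  haveI : IsLocallyNoetherian (Spec R) := inferInstance
  let F : s → ModuleCat.{u} R := fun E => ModuleCat.of R ↥(E.1)
  have hint : DirectSum.IsInternal (fun E : s => (E.1 : Submodule R M)) :=
    DirectSum.isInternal_submodule_of_iSupIndep_of_iSup_eq_top ((sSupIndep_iff s).1 hs)
      (by rwa [← sSup_eq_iSup'])
  let g : M ≅ ∐ F :=
    (LinearEquiv.ofBijective (DirectSum.coeLinearMap fun E : s => (E.1 : Submodule R M)) hint).symm.toModuleIso ≪≫ (ModuleCat.coprodIsoDirectSum F).symm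
  let e : tilde M ≅ ∐ fun E => tilde (F E) :=
    (tilde.functor R).mapIso g ≪≫ PreservesCoproduct.iso (tilde.functor R) F
  refine injective_of_liftsIdeals _ fun x => ⟨⊤, trivial, liftsIdeals_of_iso e.symm
    (liftsIdeals_coprod _ (isAffineOpen_top _) fun E => ?_)⟩
  obtain ⟨hi, hi'⟩ := hE E.1 E.2
  haveI := hi'
  obtain ⟨p, hp, f, hf⟩ := InjHullBasic.exists_prime_hull hi
  exact liftsIdeals_tilde_hull (F E) ⟨p, hp⟩ f hf

end Spec

section Scheme

variable {X : Scheme.{u}} [IsLocallyNoetherian X]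

include X in
/-- The sections of a quasi-coherent module with injective stalks form an injective module. -/
theorem injective_sections (F : X.Modules) [F.IsQuasicoherent]
    (h : ∀ x : X, Module.Injective (X.presheaf.stalk x) (F.presheaf.stalk x)) {U : X.Opens}
    (hU : IsAffineOpen U) : Module.Injective Γ(X, U) Γ(F, U) := by
  classical
  haveI := isNoetherianRing_sections hU
  refine Module.Baer.injective fun 𝔞 φ => ?_
  let C : Ideal Γ(X, U) :=
    { carrier := {s | ∃ m : Γ(F, U), ∀ a : 𝔞, s • φ a = (a : Γ(X, U)) • m}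
      zero_mem' := ⟨0, fun a => by rw [zero_smul, smul_zero]⟩
      add_mem' := fun {s t} ⟨m, hm⟩ ⟨m', hm'⟩ => ⟨m + m', fun a => by rw [add_smul, smul_add, hm, hm']⟩
      smul_mem' := fun c s ⟨m, hm⟩ => ⟨c • m, fun a => by rw [smul_eq_mul, mul_smul, hm, smul_comm]⟩ }
  have hC : C = ⊤ := by
    by_contra hne
    obtain ⟨P, hP, hCP⟩ := Ideal.exists_le_maximal C hne
    let p : PrimeSpectrum Γ(X, U) := ⟨P, hP.isPrime⟩
    let x := pt hU p
    have hx : x ∈ U := pt_mem hU p
    have hunit : ∀ s ∉ P, IsUnit (X.presheaf.germ U x hx s) := fun s hs =>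
      (X.mem_basicOpen s x hx).1 ((pt_mem_basicOpen hU p s).2 hs)
    have hkill : ∀ m : Γ(F, U), DCohBridge.gmM F U hx m = 0 → ∃ t, t ∉ P ∧ t • m = 0 := by
      intro m hm
      obtain ⟨V, hxV, i, j, e⟩ := TopCat.Presheaf.germ_eq (C := AddCommGrpCat.{u}) F.presheaf x hx hx
        m 0 (hm.trans (map_zero _).symm)
      obtain ⟨f, hfV, hxf⟩ := hU.exists_basicOpen_le ⟨x, hxV⟩ hx
      obtain ⟨k, hk⟩ := exists_pow_smul_eq_zero F hU f rfl (X.basicOpen_le f) m (by
        rw [← mres_mres F i.le hfV, show mres F i.le m = 0 from e.trans (map_zero _), map_zero])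
      exact ⟨f ^ k, fun h => (pt_mem_basicOpen hU p f).1 hxf (hP.isPrime.mem_of_pow_mem _ h), hk⟩
    let T : Submodule (X.presheaf.stalk x) (X.presheaf.stalk x × F.presheaf.stalk x) :=
      Submodule.span _ (Set.range fun a : 𝔞 => (X.presheaf.germ U x hx a.1, DCohBridge.gmM F U hx (φ a)))
    have hT : ∀ z ∈ T, ∃ (a : 𝔞) (s : Γ(X, U)), s ∉ P ∧
        X.presheaf.germ U x hx s • z = (X.presheaf.germ U x hx a.1, DCohBridge.gmM F U hx (φ a)) := by
      intro z hz
      induction hz using Submodule.span_induction with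
      | mem z hz =>
        obtain ⟨a, rfl⟩ := hz
        exact ⟨a, 1, hP.isPrime.one_notMem, by rw [map_one, one_smul]⟩
      | zero => exact ⟨0, 1, hP.isPrime.one_notMem, by simp; rfl⟩
      | add z z' _ _ ih ih' =>
        obtain ⟨a, s, hs, he⟩ := ih
        obtain ⟨a', s', hs', he'⟩ := ih'
        refine ⟨s' • a + s • a', s * s', fun h => (hP.isPrime.mem_or_mem h).elim hs hs', ?_⟩
        rw [map_mul, smul_add]
        conv_lhs => arg 1; rw [mul_comm, mul_smul, he]
        rw [mul_smul, he']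
        refine Prod.ext ?_ ?_
        · change X.presheaf.germ U x hx s' * X.presheaf.germ U x hx a.1 +
            X.presheaf.germ U x hx s * X.presheaf.germ U x hx a'.1 = X.presheaf.germ U x hx (s' * a.1 + s * a'.1)
          rw [map_add, map_mul, map_mul]
        · change X.presheaf.germ U x hx s' • DCohBridge.gmM F U hx (φ a) +
            X.presheaf.germ U x hx s • DCohBridge.gmM F U hx (φ a') = DCohBridge.gmM F U hx (φ (s' • a + s • a'))
          rw [← gm_smul', ← gm_smul', ← map_add]
          exact congrArg _ (by rw [map_add, map_smul, map_smul])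
      | smul σ z _ ih =>
        obtain ⟨a, s, hs, he⟩ := ih
        haveI := hU.isLocalization_stalk ⟨x, hx⟩
        letI := X.presheaf.algebra_section_stalk ⟨x, hx⟩
        obtain ⟨⟨c, t⟩, hσ⟩ := IsLocalization.surj (hU.primeIdealOf ⟨x, hx⟩).asIdeal.primeCompl σ
        have ht : t.1 ∉ P := fun h => (pt_mem_basicOpen hU p t.1).1
          ((X.mem_basicOpen t.1 x hx).2 (IsLocalization.map_units (X.presheaf.stalk x) t)) h
        refine ⟨c • a, t.1 * s, fun h => (hP.isPrime.mem_or_mem h).elim ht hs, ?_⟩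
        rw [map_mul, mul_smul, smul_comm (X.presheaf.germ U x hx s), he, smul_smul, mul_comm]
        rw [show σ * X.presheaf.germ U x hx t.1 = X.presheaf.germ U x hx c from hσ]
        refine Prod.ext ?_ ?_
        · change X.presheaf.germ U x hx c * X.presheaf.germ U x hx a.1 = X.presheaf.germ U x hx (c * a.1)
          rw [map_mul]
        · change X.presheaf.germ U x hx c • DCohBridge.gmM F U hx (φ a) = DCohBridge.gmM F U hx (φ (c • a))
          rw [← gm_smul']
          exact congrArg _ (by rw [map_smul])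
    let i : T →ₗ[X.presheaf.stalk x] X.presheaf.stalk x := LinearMap.fst _ _ _ ∘ₗ T.subtype
    have hi : Function.Injective i := by
      refine (injective_iff_map_eq_zero i).2 fun z hz => ?_
      obtain ⟨a, s, hs, he⟩ := hT z.1 z.2
      haveI := hU.isLocalization_stalk ⟨x, hx⟩
      letI := X.presheaf.algebra_section_stalk ⟨x, hx⟩
      have ha : algebraMap Γ(X, U) (X.presheaf.stalk x) a.1 = 0 := by
        refine (congrArg Prod.fst he).symm.trans ?_
        rw [Prod.smul_fst, show z.1.1 = 0 from hz, smul_zero]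
      obtain ⟨t, ht⟩ := (IsLocalization.map_eq_zero_iff (hU.primeIdealOf ⟨x, hx⟩).asIdeal.primeCompl _ _).1 ha
      have h2 : (t : Γ(X, U)) • φ a = 0 := by
        rw [← map_smul, show (t : Γ(X, U)) • a = 0 from Subtype.ext ht, map_zero]
      have hu : IsUnit (X.presheaf.germ U x hx t.1) := IsLocalization.map_units (X.presheaf.stalk x) t
      have h3 : DCohBridge.gmM F U hx (φ a) = 0 := hu.smul_eq_zero.1 (by
        rw [← gm_smul']; exact (congrArg _ h2).trans (map_zero _))
      refine Subtype.ext (Prod.ext hz ?_)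
      refine (hunit s hs).smul_eq_zero.1 ?_
      exact (congrArg Prod.snd he).trans h3
    haveI := h x
    obtain ⟨k, hk⟩ := Module.Injective.out i hi (LinearMap.snd _ _ _ ∘ₗ T.subtype)
    obtain ⟨V, hxV, w, hw⟩ := TopCat.Presheaf.exists_germ_eq (C := AddCommGrpCat.{u}) F.presheaf (k 1)
    obtain ⟨f, hfV, hxf⟩ := hU.exists_basicOpen_le ⟨x, hxV⟩ hx
    obtain ⟨n, m, hm⟩ := exists_pow_smul_eq_mres F hU f rfl (X.basicOpen_le f) (mres F hfV w)
    have hm' : DCohBridge.gmM F U hx m = X.presheaf.germ U x hx (f ^ n) • k 1 := by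
      have e1 : DCohBridge.gmM F (X.basicOpen f) hxf (mres F (X.basicOpen_le f) m) = DCohBridge.gmM F U hx m :=
        TopCat.Presheaf.germ_res_apply (C := AddCommGrpCat.{u}) F.presheaf _ x hxf m
      have e2 : DCohBridge.gmM F (X.basicOpen f) hxf (mres F hfV w) = k 1 :=
        (TopCat.Presheaf.germ_res_apply (C := AddCommGrpCat.{u}) F.presheaf _ x hxf w).trans hw
      refine e1.symm.trans ((congrArg (DCohBridge.gmM F (X.basicOpen f) hxf) hm).trans ?_)
      rw [← map_pow, gm_smul', e2]
      congr 1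
      exact TopCat.Presheaf.germ_res_apply X.presheaf _ x hxf _
    obtain ⟨t, ht⟩ := (IsNoetherian.noetherian 𝔞 : 𝔞.FG)
    have hgen : ∀ a : t, ∃ c, c ∉ P ∧ c • ((f ^ n) • φ ⟨a.1, ht ▸ Submodule.subset_span a.2⟩ - a.1 • m) = 0 := by
      intro a
      refine hkill _ ?_
      rw [map_sub, sub_eq_zero, gm_smul', gm_smul', hm', smul_comm]
      congr 1
      have ha : a.1 ∈ 𝔞 := ht ▸ Submodule.subset_span a.2
      have h5 := hk (⟨_, Submodule.subset_span (Set.mem_range_self (⟨a.1, ha⟩ : 𝔞))⟩ : T)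
      refine h5.symm.trans ?_
      change k (X.presheaf.germ U x hx a.1) = _
      rw [← map_smul, smul_eq_mul, mul_one]
    choose c hc hcz using hgen
    have hn : f ^ n ∉ P := fun h => (pt_mem_basicOpen hU p f).1 hxf (hP.isPrime.mem_of_pow_mem _ h)
    let σ := t.attach.prod c
    have hσ : σ ∉ P := fun h => by
      obtain ⟨a, -, ha⟩ := (Ideal.IsPrime.prod_mem_iff (hp := hP.isPrime)).1 h
      exact hc a ha
    refine (fun h => (hP.isPrime.mem_or_mem h).elim hσ hn) (hCP (show σ * f ^ n ∈ C from ⟨σ • m, fun a => ?_⟩))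
    let N : Submodule Γ(X, U) 𝔞 :=
      LinearMap.eqLocus ((σ * f ^ n) • φ) (LinearMap.toSpanSingleton _ _ (σ • m) ∘ₗ 𝔞.subtype)
    suffices a ∈ N from this
    have hle : (𝔞 : Submodule Γ(X, U) Γ(X, U)) ≤ N.map 𝔞.subtype := by
      refine ht.symm.trans_le (Submodule.span_le.2 fun b hb => ⟨⟨b, ht ▸ Submodule.subset_span hb⟩, ?_, rfl⟩)
      obtain ⟨d, hd⟩ : c ⟨b, hb⟩ ∣ σ := Finset.dvd_prod_of_mem c (Finset.mem_attach t ⟨b, hb⟩)
      change (σ * f ^ n) • φ _ = b • (σ • m)
      rw [mul_smul, smul_comm b σ m, ← sub_eq_zero, ← smul_sub, hd, mul_comm, mul_smul, hcz ⟨b, hb⟩, smul_zero]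
    obtain ⟨z, hz, hz'⟩ := hle a.2
    rwa [show a = z from Subtype.ext hz'.symm]
  obtain ⟨m, hm⟩ := (Ideal.eq_top_iff_one C).1 hC
  exact ⟨LinearMap.toSpanSingleton _ _ m, fun a ha => (hm ⟨a, ha⟩).symm.trans (one_smul _ _)⟩

lemma injective_restrict {Y Z : Scheme.{u}} (j : Y ⟶ Z) [IsOpenImmersion j] (J : Z.Modules) (hJ : Injective J) :
    Injective (J.restrict j) :=
  @Injective.injective_of_adjoint _ _ _ _ (CxOX.extZero j) (Scheme.Modules.restrictFunctor j)
    inferInstance (CxOX.extZeroAdj j) J hJ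

include X in
/-- A quasi-coherent module with injective stalks is injective. -/
theorem injective_of_stalks (F : X.Modules) [F.IsQuasicoherent]
    (h : ∀ x : X, Module.Injective (X.presheaf.stalk x) (F.presheaf.stalk x)) : Injective F := by
  refine injective_of_locally F fun x => ?_
  obtain ⟨U, hU, hxU, -⟩ :=
    Opens.isBasis_iff_nbhd.1 X.isBasis_affineOpens (U := ⊤) (Opens.mem_top x)
  haveI := isNoetherianRing_sections hU
  haveI := injective_sections F h hU
  let M := (modulesSpecToSheaf.obj (F.restrict hU.fromSpec)).presheaf.obj (op ⊤)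
  haveI : Module.Injective Γ(X, U) M := InjHullBasic.injective_of_linearEquiv (sectionsEquiv F hU).symm
  haveI := isLocalizing_restrict F hU
  haveI : IsIso (F.restrict hU.fromSpec).fromTildeΓ := (isIso_fromTildeΓ_iff_isLocalizing _).2 ‹_›
  have h1 : Injective (F.restrict hU.fromSpec) :=
    Injective.of_iso (asIso (F.restrict hU.fromSpec).fromTildeΓ) (injective_tilde M)
  have h2 : Injective (F.restrict (Scheme.Opens.ι U)) :=
    Injective.of_iso (((Scheme.Modules.restrictFunctorComp hU.isoSpec.hom hU.fromSpec).symm ≪≫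
      Scheme.Modules.restrictFunctorCongr hU.isoSpec_hom_fromSpec).app F)
      (injective_restrict hU.isoSpec.hom _ h1)
  let E := Scheme.Modules.overEquiv U
  have h3 : Injective (E.functor.obj ((ModSite.restr X.sheaf U).obj F)) :=
    Injective.of_iso ((Scheme.Modules.overFunctorEquiv U).app F).symm h2
  have h4 : Injective (E.inverse.obj (E.functor.obj ((ModSite.restr X.sheaf U).obj F))) :=
    @Injective.injective_of_adjoint _ _ _ _ E.functor E.inverse inferInstance E.toAdjunction _ h3
  exact ⟨U, hxU, Injective.of_iso (E.unitIso.app _).symm h4⟩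

end Scheme

end Groth.Agent.NoethMod
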