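import Mathlib.RingTheory.Spectrum.Prime.Basic
import Mathlib.RingTheory.Noetherian.Basic

/-!
# Ascending families of ideals indexed by primes
-/

set_option autoImplicit false

universe u v

namespace Groth.Agent.NoethMod

variable {A : Type u} [CommRing A] [IsNoetherianRing A] {ι : Type v} [Preorder ι] [IsDirected ι (· ≤ ·)] [Nonempty ι]

/-- A directed family of "stalk ideals" over a Noetherian ring stabilises. -/
theorem exists_stable (J : ι → PrimeSpectrum A → Ideal A) (hmono : ∀ p, Monotone fun i => J i p)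
    (hgen : ∀ i (p q : PrimeSpectrum A), q.asIdeal ≤ p.asIdeal → J i p ≤ J i q)
    (hopen : ∀ i (p : PrimeSpectrum A) (a : A), a ∈ J i p →
      ∃ s : A, s ∉ p.asIdeal ∧ ∀ q : PrimeSpectrum A, s ∉ q.asIdeal → a ∈ J i q) :
    ∃ i₀, ∀ i, i₀ ≤ i → ∀ p, J i p = J i₀ p := by
  suffices ∀ I : Ideal A, ∃ i₀, ∀ i, i₀ ≤ i → ∀ p : PrimeSpectrum A, I ≤ p.asIdeal → J i p = J i₀ p by
    obtain ⟨i₀, hi₀⟩ := this ⊥
    exact ⟨i₀, fun i hi p => hi₀ i hi p bot_le⟩
  intro I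
  induction I using WellFoundedGT.induction with
  | _ I ih =>
  have glue : ∀ (a b : A), a ∉ I → b ∉ I →
      ∃ i₀, ∀ i, i₀ ≤ i → ∀ p : PrimeSpectrum A,
        I ≤ p.asIdeal → (a ∈ p.asIdeal ∨ b ∈ p.asIdeal) → J i p = J i₀ p := by
    intro a b ha hb
    have hgt : ∀ c, c ∉ I → I < I ⊔ Ideal.span {c} := fun c hc =>
      lt_of_le_of_ne le_sup_left fun h =>
        hc (h ▸ Ideal.mem_sup_right (Ideal.mem_span_singleton_self c))
    obtain ⟨i₁, h₁⟩ := ih _ (hgt a ha)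
    obtain ⟨i₂, h₂⟩ := ih _ (hgt b hb)
    obtain ⟨i₀, hi₁, hi₂⟩ := exists_ge_ge i₁ i₂
    refine ⟨i₀, fun i hi p hp hab => ?_⟩
    rcases hab with h | h
    · have hI : I ⊔ Ideal.span {a} ≤ p.asIdeal := sup_le hp ((Ideal.span_singleton_le_iff_mem _).2 h)
      rw [h₁ i (hi₁.trans hi) p hI, h₁ i₀ hi₁ p hI]
    · have hI : I ⊔ Ideal.span {b} ≤ p.asIdeal := sup_le hp ((Ideal.span_singleton_le_iff_mem _).2 h)
      rw [h₂ i (hi₂.trans hi) p hI, h₂ i₀ hi₂ p hI]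
  by_cases hp : I.IsPrime
  · let η : PrimeSpectrum A := ⟨I, hp⟩
    obtain ⟨M, ⟨i₁, rfl⟩, hmax⟩ :=
      set_has_maximal_iff_noetherian.2 inferInstance (Set.range fun i => J i η) (Set.range_nonempty _)
    have hM : ∀ i, i₁ ≤ i → J i η = J i₁ η := fun i hi =>
      ((eq_of_le_of_not_lt (hmono η hi) (hmax _ ⟨i, rfl⟩))).symm
    obtain ⟨t, ht⟩ := (IsNoetherian.noetherian (J i₁ η) : (J i₁ η).FG)
    classical
    choose s hs hsJ using fun a : t => hopen i₁ η a.1 (ht ▸ Submodule.subset_span a.2)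
    let σ : A := t.attach.prod s
    have hσ : σ ∉ I := fun h => by
      obtain ⟨a, -, ha⟩ := (Ideal.IsPrime.prod_mem_iff (hp := hp)).1 h
      exact hs a ha
    obtain ⟨i₂, h₂⟩ := glue σ σ hσ hσ
    obtain ⟨i₀, hi₁, hi₂⟩ := exists_ge_ge i₁ i₂
    refine ⟨i₀, fun i hi p hpI => ?_⟩
    by_cases hσp : σ ∈ p.asIdeal
    · rw [h₂ i (hi₂.trans hi) p hpI (Or.inl hσp), h₂ i₀ hi₂ p hpI (Or.inl hσp)]
    · have hle : J i₁ η ≤ J i₁ p := by
        rw [← ht]
        refine Submodule.span_le.2 fun a ha => hsJ ⟨a, ha⟩ p fun h => hσp ?_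
        exact Ideal.mem_of_dvd _ (Finset.dvd_prod_of_mem s (Finset.mem_attach t ⟨a, ha⟩)) h
      have key : ∀ j, i₁ ≤ j → J j p = J i₁ η := fun j hj =>
        le_antisymm ((hgen j p η hpI).trans (hM j hj).le) (hle.trans (hmono p hj))
      rw [key i (hi₁.trans hi), key i₀ hi₁]
  · by_cases htop : I = ⊤
    · exact ⟨Classical.arbitrary ι, fun i _ p hpI => absurd (top_le_iff.1 (htop ▸ hpI)) p.isPrime.ne_top⟩
    · obtain ⟨a, b, hab, ha, hb⟩ : ∃ a b, a * b ∈ I ∧ a ∉ I ∧ b ∉ I := by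
        by_contra hc
        push Not at hc
        exact hp ⟨htop, fun {a b} hab => or_iff_not_imp_left.2 fun ha => hc a b hab ha⟩
      obtain ⟨i₀, h₀⟩ := glue a b ha hb
      exact ⟨i₀, fun i hi p hpI => h₀ i hi p hpI (p.isPrime.mem_or_mem (hpI hab))⟩

end Groth.Agent.NoethMod
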