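import Groth.Agent.NoethMod.Coprod
import Mathlib.Algebra.Module.Injective
import Mathlib.RingTheory.Localization.Ideal

/-!
# Stalks of injective modules on locally Noetherian schemes
-/

set_option autoImplicit false
set_option linter.style.haveILetI false

noncomputable section

universe u

open CategoryTheory CategoryTheory.Limits AlgebraicGeometry TopologicalSpace Opposite
open Groth.Agent.QCohBase Groth.Agent.SheafHomLib

namespace Groth.Agent.NoethMod

variable {X : Scheme.{u}}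

lemma exists_common {x : X} (M : X.Modules) {U : X.Opens} (hx : x ∈ U) {n : ℕ}
    (f : Fin n → M.presheaf.stalk x) :
    ∃ (V : X.Opens) (_ : V ≤ U) (hV : x ∈ V) (y : Fin n → Γ(M, V)),
      ∀ k, M.presheaf.germ V x hV (y k) = f k := by
  choose V hV y hy using fun k => TopCat.Presheaf.exists_germ_eq (C := AddCommGrpCat.{u}) M.presheaf (f k)
  have hmem : x ∈ U ⊓ Finset.univ.inf V := ⟨hx, by
    change x ∈ ((Finset.univ.inf V : Opens X) : Set X)
    rw [Opens.coe_finset_inf]
    simpa [Finset.inf_eq_iInf] using hV⟩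
  refine ⟨U ⊓ Finset.univ.inf V, inf_le_left, hmem,
    fun k => mres M (inf_le_right.trans (Finset.inf_le (Finset.mem_univ k))) (y k), fun k => ?_⟩
  exact (TopCat.Presheaf.germ_res_apply (C := AddCommGrpCat.{u}) M.presheaf _ x hmem (y k)).trans (hy k)

lemma exists_vanish {x : X} (M : X.Modules) {U : X.Opens} (hx : x ∈ U) {n : ℕ} (y : Fin n → Γ(M, U))
    (h : ∀ k, M.presheaf.germ U x hx (y k) = 0) :
    ∃ (V : X.Opens) (hVU : V ≤ U), x ∈ V ∧ ∀ k, mres M hVU (y k) = 0 := by
  have h' : ∀ k, ∃ (V : X.Opens) (hVU : V ≤ U), x ∈ V ∧ mres M hVU (y k) = 0 := fun k => by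
    obtain ⟨V, hxV, i, j, e⟩ := TopCat.Presheaf.germ_eq (C := AddCommGrpCat.{u}) M.presheaf x hx hx
      (y k) 0 ((h k).trans (map_zero _).symm)
    exact ⟨V, i.le, hxV, e.trans (map_zero _)⟩
  choose V hVU hxV hy using h'
  have hmem : x ∈ U ⊓ Finset.univ.inf V := ⟨hx, by
    change x ∈ ((Finset.univ.inf V : Opens X) : Set X)
    rw [Opens.coe_finset_inf]
    simpa [Finset.inf_eq_iInf] using hxV⟩
  refine ⟨U ⊓ Finset.univ.inf V, inf_le_left, hmem, fun k => ?_⟩
  rw [← mres_mres M (hVU k) (inf_le_right.trans (Finset.inf_le (Finset.mem_univ k))), hy k, map_zero]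

lemma gm_sum_smul (M : X.Modules) {W : X.Opens} {z : X} (hz : z ∈ W) {n : ℕ} (c : Fin n → Γ(X, W))
    (y : Fin n → Γ(M, W)) :
    M.presheaf.germ W z hz (∑ k, c k • y k) =
      ∑ k, X.presheaf.germ W z hz (c k) • M.presheaf.germ W z hz (y k) := by
  rw [map_sum]
  exact Finset.sum_congr rfl fun k _ => DCohBridge.gmM_smul M W hz _ _

theorem injective_stalk [IsLocallyNoetherian X] (I : X.Modules) (hI : Injective I) (x : X) :
    Module.Injective (X.presheaf.stalk x) (I.presheaf.stalk x) := by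
  obtain ⟨U, hU, hxU, -⟩ :=
    Opens.isBasis_iff_nbhd.1 X.isBasis_affineOpens (U := ⊤) (Opens.mem_top x)
  haveI := isNoetherianRing_sections hU
  refine Module.Baer.injective fun 𝔟 g => ?_
  haveI := hU.isLocalization_stalk ⟨x, hxU⟩
  letI := X.presheaf.algebra_section_stalk ⟨x, hxU⟩
  let 𝔞 : Ideal Γ(X, U) := 𝔟.comap (X.presheaf.germ U x hxU).hom
  obtain ⟨n, a, ha⟩ := Submodule.fg_iff_exists_fin_generating_family.1 (IsNoetherian.noetherian 𝔞)
  have hmem : ∀ k, X.presheaf.germ U x hxU (a k) ∈ 𝔟 := fun k =>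
    show a k ∈ 𝔞 from ha ▸ Submodule.subset_span ⟨k, rfl⟩
  obtain ⟨V₁, hV₁U, hxV₁, y₁, hy₁⟩ := exists_common I hxU fun k => g ⟨_, hmem k⟩
  let L : (Fin n → Γ(X, U)) →ₗ[Γ(X, U)] Γ(X, U) := Fintype.linearCombination Γ(X, U) a
  obtain ⟨m, r, hr⟩ := Submodule.fg_iff_exists_fin_generating_family.1 (IsNoetherian.noetherian (LinearMap.ker L))
  have hrel : ∀ l, I.presheaf.germ V₁ x hxV₁ (∑ k, ores hV₁U (r l k) • y₁ k) = 0 := by
    intro l
    have h0 : ∑ k, r l k * a k = 0 := by
      have : r l ∈ LinearMap.ker L := hr ▸ Submodule.subset_span ⟨l, rfl⟩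
      simpa [L, Fintype.linearCombination_apply] using this
    have h1 : ∑ k, X.presheaf.germ U x hxU (r l k) • (⟨_, hmem k⟩ : 𝔟) = 0 := by
      apply Subtype.ext
      simp only [AddSubmonoidClass.coe_finsetSum, SetLike.val_smul, smul_eq_mul, ZeroMemClass.coe_zero,
        ← map_mul, ← map_sum, h0, map_zero]
    rw [gm_sum_smul]
    refine Eq.trans ?_ ((congrArg g h1).trans (map_zero g))
    rw [map_sum]
    refine Finset.sum_congr rfl fun k _ => ?_
    rw [map_smul, hy₁ k, TopCat.Presheaf.germ_res_apply]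
  obtain ⟨V, hVV₁, hxV, hrelV⟩ := exists_vanish I hxV₁ _ hrel
  have hVU : V ≤ U := hVV₁.trans hV₁U
  let y : Fin n → Γ(I, V) := fun k => mres I hVV₁ (y₁ k)
  have hker : ∀ c ∈ LinearMap.ker L, ∑ k, ores hVU (c k) • y k = 0 := by
    let N : Submodule Γ(X, U) (Fin n → Γ(X, U)) :=
      { carrier := {c | ∑ k, ores hVU (c k) • y k = 0}
        zero_mem' := by simp
        add_mem' := fun {p q} (hp : _ = _) (hq : _ = _) => by
          change ∑ k, ores hVU ((p + q) k) • y k = 0
          simp only [Pi.add_apply, map_add, add_smul, Finset.sum_add_distrib, hp, hq, add_zero]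
        smul_mem' := fun t p (hp : _ = _) => by
          change ∑ k, ores hVU ((t • p) k) • y k = 0
          simp only [Pi.smul_apply, smul_eq_mul, map_mul, mul_smul, ← Finset.smul_sum, hp, smul_zero] }
    intro c hc
    refine (hr.symm.le.trans (Submodule.span_le.2 (Set.range_subset_iff.2 fun l => ?_)) : _ ≤ N) hc
    change ∑ k, ores hVU (r l k) • y k = 0
    refine Eq.trans ?_ (hrelV l)
    rw [map_sum]
    exact Finset.sum_congr rfl fun k _ => by rw [mres_smul, ores_ores]
  let Φ : ∀ (W : X.Opens), W ≤ V → ((Fin n → Γ(X, W)) →ₗ[Γ(X, W)] Γ(X, W) × Γ(I, W)) := fun W h =>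
    (Fintype.linearCombination Γ(X, W) fun k => ores (h.trans hVU) (a k)).prod
      (Fintype.linearCombination Γ(X, W) fun k => mres I h (y k))
  let q : ∀ W : X.Opens, Submodule Γ(X, W) (Γ(X, W) × Γ(I, W)) :=
    fun W => ⨆ h : W ≤ V, LinearMap.range (Φ W h)
  have hq : ∀ {W : X.Opens} {p}, p ∈ q W → p = 0 ∨ ∃ (h : W ≤ V) (c : Fin n → Γ(X, W)), Φ W h c = p := by
    intro W p hp
    by_cases hW : W ≤ V
    · rw [show q W = LinearMap.range (Φ W hW) from iSup_pos hW] at hp
      exact Or.inr ⟨hW, hp⟩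
    · rw [show q W = ⊥ from iSup_neg hW] at hp
      exact Or.inl ((Submodule.mem_bot _).1 hp)
  have hΦ : ∀ {W : X.Opens} (h : W ≤ V) (c : Fin n → Γ(X, W)),
      Φ W h c = (∑ k, c k * ores (h.trans hVU) (a k), ∑ k, c k • mres I h (y k)) := fun h c => by
    simp [Φ, Fintype.linearCombination_apply]
  obtain ⟨y₀, hy₀⟩ := liftsIdeals_of_injective I U
    (@Injective.injective_of_adjoint _ _ _ _ (ModSite.extZero X.sheaf U) (ModSite.restr X.sheaf U)
      (SiteBase.extZero_preservesMonomorphisms X.sheaf U) (ModSite.extZeroAdj X.sheaf U) I hI)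
    q (fun {W W'} h {p} hp => by
      rcases hq hp with rfl | ⟨hW, c, rfl⟩
      · simp only [Prod.fst_zero, Prod.snd_zero, map_zero]
        exact (q W').zero_mem
      · refine le_iSup (fun h' : W' ≤ V => LinearMap.range (Φ W' h')) (h.trans hW) ⟨fun k => ores h (c k), ?_⟩
        simp only [hΦ, map_sum, map_mul, ores_ores, mres_smul, mres_mres])
    (fun W z hWU hz => by
      rcases hq hz with h | ⟨hW, c, hc⟩
      · exact congrArg Prod.snd h
      rw [hΦ] at hc
      obtain ⟨hc1, rfl⟩ := Prod.ext_iff.1 hc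
      refine TopCat.Presheaf.section_ext (C := AddCommGrpCat.{u}) ⟨I.presheaf, I.isSheaf⟩ W _ _ fun w hw => ?_
      refine Eq.trans ?_ (map_zero _).symm
      refine (gm_sum_smul I hw c _).trans ?_
      haveI := hU.isLocalization_stalk ⟨w, hWU hw⟩
      letI := X.presheaf.algebra_section_stalk ⟨w, hWU hw⟩
      let P := (hU.primeIdealOf ⟨w, hWU hw⟩).asIdeal.primeCompl
      obtain ⟨b, hb⟩ := IsLocalization.exist_integer_multiples_of_finite P
        fun k => X.presheaf.germ W w hw (c k)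
      choose c' hc' using hb
      have h0 : algebraMap Γ(X, U) (X.presheaf.stalk w) (∑ k, c' k * a k) = 0 := by
        have h2 := congrArg (fun t => (b : Γ(X, U)) • X.presheaf.germ W w hw t) hc1
        simp only [map_sum, map_mul, map_zero, smul_zero, Finset.smul_sum] at h2
        rw [map_sum]
        refine Eq.trans (Finset.sum_congr rfl fun k _ => ?_) h2
        rw [map_mul, hc' k, TopCat.Presheaf.germ_res_apply, smul_mul_assoc]
        rfl
      obtain ⟨t, ht⟩ := (IsLocalization.map_eq_zero_iff P _ _).1 h0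
      have hu : IsUnit (algebraMap Γ(X, U) (X.presheaf.stalk w) (t * b)) :=
        IsLocalization.map_units _ (t * b)
      have hwV : w ∈ V := hW hw
      have h3 := hker (fun k => (t : Γ(X, U)) * c' k) (by
        simp only [LinearMap.mem_ker, L, Fintype.linearCombination_apply, smul_eq_mul, mul_assoc,
          ← Finset.mul_sum]
        exact ht)
      have h4 := congrArg (I.presheaf.germ V w hwV) h3
      rw [gm_sum_smul, map_zero] at h4
      refine hu.smul_eq_zero.1 (Eq.trans ?_ h4)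
      rw [Finset.smul_sum]
      refine Finset.sum_congr rfl fun k _ => ?_
      rw [smul_smul, TopCat.Presheaf.germ_res_apply (C := AddCommGrpCat.{u}) I.presheaf (homOfLE hW) w hw]
      congr 1
      rw [TopCat.Presheaf.germ_res_apply, map_mul, mul_assoc, ← Algebra.smul_def (b : Γ(X, U)), ← hc' k,
        ← map_mul]
      rfl)
  let e : I.presheaf.stalk x := I.presheaf.germ U x hxU y₀
  refine ⟨LinearMap.toSpanSingleton _ _ e, fun σ hσ => ?_⟩
  have hgen : ∀ k, g ⟨_, hmem k⟩ = X.presheaf.germ U x hxU (a k) • e := by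
    intro k
    classical
    have h1 := hy₀ V hVU (ores hVU (a k)) (y k)
      (le_iSup (fun h' : V ≤ V => LinearMap.range (Φ V h')) le_rfl ⟨Pi.single k 1, by
        simp [hΦ, Pi.single_apply]⟩)
    have h2 := congrArg (I.presheaf.germ V x hxV) h1
    rw [show I.presheaf.germ V x hxV (y k) = g ⟨_, hmem k⟩ from
      (TopCat.Presheaf.germ_res_apply (C := AddCommGrpCat.{u}) I.presheaf _ x hxV (y₁ k)).trans (hy₁ k)] at h2
    refine h2.trans ((DCohBridge.gmM_smul I V hxV _ _).trans ?_)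
    rw [TopCat.Presheaf.germ_res_apply,
      show DCohBridge.gmM I V hxV (mres I hVU y₀) = e from
        TopCat.Presheaf.germ_res_apply (C := AddCommGrpCat.{u}) I.presheaf _ x hxV y₀]
  let E : Submodule (X.presheaf.stalk x) 𝔟 :=
    LinearMap.eqLocus g (LinearMap.toSpanSingleton _ _ e ∘ₗ 𝔟.subtype)
  suffices (⟨σ, hσ⟩ : 𝔟) ∈ E from this.symm
  have hle : 𝔟 ≤ E.map 𝔟.subtype := by
    have hb : 𝔟 = 𝔞.map (algebraMap Γ(X, U) (X.presheaf.stalk x)) :=
      (IsLocalization.map_under (hU.primeIdealOf ⟨x, hxU⟩).asIdeal.primeCompl _ 𝔟).symm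
    refine hb.trans_le ?_
    rw [← ha, ← Ideal.span, Ideal.map_span, Ideal.span_le]
    rintro _ ⟨_, ⟨k, rfl⟩, rfl⟩
    exact ⟨⟨_, hmem k⟩, hgen k, rfl⟩
  obtain ⟨z, hz, hz'⟩ := hle hσ
  rwa [show (⟨σ, hσ⟩ : 𝔟) = z from Subtype.ext hz'.symm]

end Groth.Agent.NoethMod
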